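import Cfsg.Agent.H52.EP.U43
import Cfsg.Agent.H59.EP.UB
import Cfsg.Agent.H419.EP.Soc
import Cfsg.Agent.H663.EP.RowSL3
import Cfsg.Agent.S3948

/-!
# S3499, socle `A₆` (helper503): a weak bound of the index

`index_le_six` : `EPT A Γ`, `soc(A) = A₆` implies `A.index ≤ 1491361`.
-/

set_option autoImplicit false
set_option linter.unusedSectionVars false

namespace Cfsg.Agent.H503.EPA

open Subgroup Cfsg.Agent.H284 Cfsg.Agent.H59.EP Cfsg.Agent.H52.EP

section Num

variable {Q : Type*} [Group Q] [Finite Q] {A N : Subgroup Q} {Γ : Subgroup (MulAut Q)} (h : EPT A Γ) (hNA : N ≤ A)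
  (hN : ∀ a ∈ A, ∀ n ∈ N, a * n * a⁻¹ ∈ N) (hC : ∀ a ∈ A, (∀ n ∈ N, a * n = n * a) → a = 1) (hs : IsSimpleGroup N)
  (hcN : Nat.card N = 360) {k : ℕ} (hk : k ≤ 4) (hcA : Nat.card A = Nat.card N * k)

include h hNA hN hC hs hcN hk hcA

/-- `A` has no abelian normal subgroups -/
theorem six_le_M {x : Q} (hx : x ∉ A) : 6 ≤ Nat.card (A ⊓ cj x A : Subgroup Q) := by
  refine Cfsg.Agent.H59.EP.EPT.six_le h (noAb_of_soc hNA hN hs ?_ hC) hx
  intro hc
  have hcomm : ∀ a b : N, a * b = b * a := fun a b => Subtype.ext (hc a a.2 b b.2)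
  have hsN := hs
  have hp : (Nat.card N).Prime := by
    let _ : CommGroup N := { (inferInstance : Group N) with mul_comm := hcomm }
    exact (IsSimpleGroup.prime_card (α := N))
  rw [hcN] at hp
  exact absurd hp (by norm_num)

/-- `N ∩ A^x ≠ 1` -/
theorem inf_ne_bot_six {x : Q} (hx : x ∉ A) : N ⊓ cj x A ≠ ⊥ := by
  intro e
  have h1 := six_le_M h hNA hN hC hs hcN hk hcA hx
  have h2 := card_M_le (A := A) hNA (x := x)
  rw [e, Subgroup.card_bot, mul_one, hcA] at h2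
  have h3 := Nat.le_of_mul_le_mul_left h2 Nat.card_pos
  omega

/-- **the key**: for every `x ∉ A` there is `X` -/
theorem key_six {x : Q} (hx : x ∉ A) : ∃ X : Subgroup Q, X ≤ N ∧
    (∀ a ∈ A, (∀ k ∈ X, a * k * a⁻¹ ∈ X) ↔ a ∈ cj x A) ∧
    ((∃ s ∈ ({2, 3, 5} : Finset ℕ), ElAb s X ∧ X ≠ ⊥) ∨ (IsSimpleGroup X ∧ ¬ Group.IsSolvable X)) := by
  have hMn : Nontrivial (N ⊓ cj x A : Subgroup Q) :=
    (Subgroup.nontrivial_iff_ne_bot _).2 (inf_ne_bot_six h hNA hN hC hs hcN hk hcA hx)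
  obtain ⟨Y, hY, hYne, hYmin⟩ := exists_min_char (B := (N ⊓ cj x A : Subgroup Q))
  have hYn : Nontrivial Y := (Subgroup.nontrivial_iff_ne_bot Y).2 hYne
  have hYc : ∀ Z : Subgroup Y, Z.Characteristic → Z = ⊥ ∨ Z = ⊤ := by
    intro Z hZ
    by_cases hZb : Z = ⊥
    · exact Or.inl hZb
    right
    have h1 := hYmin (Z.map Y.subtype) char_trans (by
      rintro _ ⟨z, _, rfl⟩
      exact z.2) (by
      intro e
      rw [Subgroup.map_eq_bot_iff_of_injective _ Y.subtype_injective] at e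
      exact hZb e)
    rw [Subgroup.eq_top_iff']
    intro y
    have h2 : (y : (N ⊓ cj x A : Subgroup Q)) ∈ Z.map Y.subtype := by rw [h1]; exact y.2
    obtain ⟨z, hz, e⟩ := h2
    have : z = y := Subtype.ext e
    rw [← this]
    exact hz
  set X : Subgroup Q := Y.map (N ⊓ cj x A : Subgroup Q).subtype with hX
  have hXle : X ≤ N ⊓ cj x A := by
    rintro _ ⟨y, _, rfl⟩
    exact y.2
  have hXN : X ≤ N := hXle.trans inf_le_left
  have hcard : Nat.card X = Nat.card Y :=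
    (Nat.card_congr (Y.equivMapOfInjective _ (N ⊓ cj x A : Subgroup Q).subtype_injective).toEquiv).symm
  have e : Y ≃* X := Y.equivMapOfInjective _ (N ⊓ cj x A : Subgroup Q).subtype_injective
  have hXd : Nat.card X ∣ 360 := by
    rw [← hcN]
    exact Subgroup.card_dvd_of_le hXN
  have hXne : X ≠ ⊥ := by
    intro e
    rw [hX, Subgroup.map_eq_bot_iff_of_injective _ (N ⊓ cj x A : Subgroup Q).subtype_injective] at e
    exact hYne e
  have hnorm : ∀ a ∈ A, (∀ k ∈ X, a * k * a⁻¹ ∈ X) → a ∈ cj x A := fun a ha hak =>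
    norm_N h hNA hN hC hs hx Y hYne ha hak
  have h5 : ∀ p, p.Prime → 5 ≤ p → ¬ p ^ 2 ∣ Nat.card Y := by
    intro p hp hp5 hd
    have h6 : p ^ 2 ∣ 360 := by
      rw [← hcard] at hd
      exact hd.trans hXd
    have h7 : (360 : ℕ) = 72 * 5 := by norm_num
    rw [h7] at h6
    have hc2 : Nat.Coprime (p ^ 2) 72 := by
      apply Nat.Coprime.pow_left
      have h8 : (72 : ℕ) = 2 ^ 3 * 3 ^ 2 := by norm_num
      rw [h8]
      exact Nat.Coprime.mul_right
        (((Nat.coprime_primes hp Nat.prime_two).2 (by omega)).pow_right 3)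
        (((Nat.coprime_primes hp Nat.prime_three).2 (by omega)).pow_right 2)
    have h8 : p ^ 2 ∣ 5 := hc2.dvd_of_dvd_mul_left h6
    have h9 := Nat.le_of_dvd (by norm_num) h8
    nlinarith
  refine ⟨X, hXN, fun a ha => ⟨hnorm a ha, fun hax => norm_N' h hNA hN hC hs Y ha hax⟩, ?_⟩
  rcases char_simple hYc h5 with ⟨s, hs', hsd, hel⟩ | ⟨h1, h2⟩
  · left
    have hsd' : s ∣ 360 := by
      rw [← hcard] at hsd
      exact hsd.trans hXd
    have hs4 : s ∈ ({2, 3, 5} : Finset ℕ) := by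
      have h7 : (360 : ℕ) = 2 ^ 3 * 3 ^ 2 * 5 := by norm_num
      rw [h7] at hsd'
      rcases (Nat.Prime.dvd_mul hs').1 hsd' with h9 | h9
      · rcases (Nat.Prime.dvd_mul hs').1 h9 with h10 | h10
        · rw [(Nat.prime_dvd_prime_iff_eq hs' Nat.prime_two).1 (hs'.dvd_of_dvd_pow h10)]; simp
        · rw [(Nat.prime_dvd_prime_iff_eq hs' Nat.prime_three).1 (hs'.dvd_of_dvd_pow h10)]; simp
      · rw [(Nat.prime_dvd_prime_iff_eq hs' Nat.prime_five).1 h9]; simp
    refine ⟨s, hs4, ⟨?_, ?_⟩, hXne⟩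
    · rintro _ ⟨a, ha, rfl⟩ _ ⟨b, hb, rfl⟩
      have := hel.comm ⟨a, ha⟩ (mem_top _) ⟨b, hb⟩ (mem_top _)
      have h1 : a * b = b * a := Subtype.ext_iff.1 this
      rw [← map_mul, ← map_mul, h1]
    · rintro _ ⟨a, ha, rfl⟩
      have := hel.exp ⟨a, ha⟩ (mem_top _)
      have h1 : a ^ s = 1 := Subtype.ext_iff.1 this
      rw [← map_pow, h1, map_one]
  · right
    exact ⟨e.symm.isSimpleGroup,
      fun h => h2 (Group.isSolvable_of_isSolvable_injective (f := e.toMonoidHom) e.injective)⟩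

/-- the number of the `M₀` -/
theorem ncard_M0_six :
    {M : Subgroup Q | ∃ x, x ∉ A ∧ M = A ⊓ cj x A}.ncard ≤ 3107 := by
  classical
  have key' : ∀ M ∈ {M : Subgroup Q | ∃ x, x ∉ A ∧ M = A ⊓ cj x A}, ∃ X : Subgroup N,
      (∀ a ∈ A, (∀ k ∈ X.map N.subtype, a * k * a⁻¹ ∈ X.map N.subtype) ↔ a ∈ M) ∧ M ≤ A ∧
      ((∃ s ∈ ({2, 3, 5} : Finset ℕ), ElAb s X ∧ X ≠ ⊥) ∨ (IsSimpleGroup X ∧ ¬ Group.IsSolvable X)) := by
    rintro _ ⟨x, hx, rfl⟩
    obtain ⟨X, hXN, h1, h3⟩ := key_six h hNA hN hC hs hcN hk hcA hx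
    have hmap : (X.subgroupOf N).map N.subtype = X := Subgroup.map_subgroupOf_eq_of_le hXN
    refine ⟨X.subgroupOf N, ?_, inf_le_left, ?_⟩
    · intro a ha
      rw [hmap, h1 a ha]
      exact ⟨fun h4 => ⟨ha, h4⟩, fun h4 => h4.2⟩
    · rcases h3 with ⟨s, hs4, hel, hne⟩ | ⟨h4, h5⟩
      · left
        refine ⟨s, hs4, ⟨?_, ?_⟩, ?_⟩
        · intro a ha b hb
          exact Subtype.ext (hel.comm _ ha _ hb)
        · intro a ha
          exact Subtype.ext (hel.exp _ ha)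
        · intro e
          apply hne
          rw [← hmap, e, Subgroup.map_bot]
      · right
        have e := Subgroup.subgroupOfEquivOfLe hXN
        refine ⟨e.isSimpleGroup, fun h6 => h5 ?_⟩
        exact Group.isSolvable_of_isSolvable_injective (f := e.symm.toMonoidHom) e.symm.injective
  choose! f hf1 hf2 hf3 using key'
  have hinj : Set.InjOn f {M : Subgroup Q | ∃ x, x ∉ A ∧ M = A ⊓ cj x A} := by
    intro M hM M' hM' e
    ext a
    constructor
    · intro ha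
      have haA := hf2 M hM ha
      rw [← hf1 M' hM' a haA, ← e, hf1 M hM a haA]
      exact ha
    · intro ha
      have haA := hf2 M' hM' ha
      rw [← hf1 M hM a haA, e, hf1 M' hM' a haA]
      exact ha
  rw [← hinj.ncard_image]
  have hsub : f '' {M : Subgroup Q | ∃ x, x ∉ A ∧ M = A ⊓ cj x A} ⊆
      (({X : Subgroup N | ElAb 2 X ∧ X ≠ ⊥} ∪ {X : Subgroup N | ElAb 3 X ∧ X ≠ ⊥}) ∪
        {X : Subgroup N | ElAb 5 X ∧ X ≠ ⊥}) ∪
      {X : Subgroup N | IsSimpleGroup X ∧ ¬ Group.IsSolvable X} := by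
    rintro _ ⟨M, hM, rfl⟩
    rcases hf3 M hM with ⟨s, hs4, hel⟩ | h4
    · left
      simp only [Finset.mem_insert, Finset.mem_singleton] at hs4
      rcases hs4 with rfl | rfl | rfl
      · exact Or.inl (Or.inl hel)
      · exact Or.inl (Or.inr hel)
      · exact Or.inr hel
    · exact Or.inr h4
  have c2 := ncard_elab_sylow (B := N) Nat.prime_two
  have c3 := ncard_elab_sylow (B := N) Nat.prime_three
  have c5 := ncard_elab_sylow (B := N) Nat.prime_five
  have cs := ncard_simple_mul_le (B := N) (𝒮 := {X : Subgroup N | IsSimpleGroup X ∧ ¬ Group.IsSolvable X}) (c := 60)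
    (fun X hX => hX) (fun X hX => by
      have := hX.1
      exact Cfsg.Agent.S3948.result) (fun X hX => Cfsg.Agent.H168.NoSolv.sixty_le hX.2)
  have hfac : ∀ (p e m : ℕ), p.Prime → m ≠ 0 → ¬ p ∣ m → 360 = p ^ e * m → (Nat.card N).factorization p = e := by
    intro p e m hp hm hpm heq
    rw [hcN, heq, Nat.factorization_mul (pow_ne_zero _ hp.ne_zero) hm, Finsupp.add_apply, hp.factorization_pow,
      Finsupp.single_eq_same, Nat.factorization_eq_zero_of_not_dvd hpm, add_zero]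
  rw [hfac 2 3 45 Nat.prime_two (by norm_num) (by norm_num) (by norm_num), hcN,
    show gal 2 3 = 15 by decide +kernel] at c2
  rw [hfac 3 2 40 Nat.prime_three (by norm_num) (by norm_num) (by norm_num), hcN,
    show gal 3 2 = 5 by decide +kernel] at c3
  rw [hfac 5 1 72 Nat.prime_five (by norm_num) (by norm_num) (by norm_num), hcN,
    show gal 5 1 = 1 by decide +kernel] at c5
  rw [hcN] at cs
  norm_num at c2 c3 c5
  have u1 := Set.ncard_union_le {X : Subgroup N | ElAb 2 X ∧ X ≠ ⊥} {X : Subgroup N | ElAb 3 X ∧ X ≠ ⊥}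
  have u3 := Set.ncard_union_le ({X : Subgroup N | ElAb 2 X ∧ X ≠ ⊥} ∪ {X : Subgroup N | ElAb 3 X ∧ X ≠ ⊥})
    ({X : Subgroup N | ElAb 5 X ∧ X ≠ ⊥})
  have u4 := Set.ncard_union_le (({X : Subgroup N | ElAb 2 X ∧ X ≠ ⊥} ∪ {X : Subgroup N | ElAb 3 X ∧ X ≠ ⊥}) ∪
    ({X : Subgroup N | ElAb 5 X ∧ X ≠ ⊥}))
    {X : Subgroup N | IsSimpleGroup X ∧ ¬ Group.IsSolvable X}
  refine (Set.ncard_le_ncard hsub (Set.toFinite _)).trans ?_
  simp only [ne_eq] at *
  omega

/-- the bound of the index -/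
theorem index_le_aux (hsQ : IsSimpleGroup Q) : A.index ≤ 1491361 := by
  have h1 := Cfsg.Agent.H173.EP.ub1 hsQ h (μ := 6) (by omega)
    (fun x hx => six_le_M h hNA hN hC hs hcN hk hcA hx)
  have h2 := ncard_M0_six h hNA hN hC hs hcN hk hcA
  have h3 : Nat.card A / 6 ≤ 240 := by
    rw [hcA, hcN]
    omega
  refine h1.trans ?_
  have h4 : 2 * (Nat.card A / 6) ≤ 480 := by omega
  have h5 := Nat.mul_le_mul h2 h4
  omega

end Num

theorem card_alt_six : Nat.card (alternatingGroup (Fin 6)) = 360 := by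
  have h1 := two_mul_nat_card_alternatingGroup (α := Fin 6)
  rw [Nat.card_perm, Nat.card_fin, show Nat.factorial 6 = 720 from rfl] at h1
  omega

/-- **the bound**: socle `A₆` -/
theorem index_le_six {Q : Type*} [Group Q] [Finite Q] (hsQ : IsSimpleGroup Q) {A : Subgroup Q}
    {Γ : Subgroup (MulAut Q)} (h : EPT A Γ) (hsoc : H419.EP.HasSoc A (alternatingGroup (Fin 6))) :
    A.index ≤ 1491361 := by
  have hcA : Nat.card A ≤ 1440 := hsoc.card_le.trans (le_of_eq Cfsg.Agent.H895.SLT.card_aut_a6)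
  obtain ⟨N, h1, h2, h3, ⟨e⟩⟩ := hsoc
  have hsA : IsSimpleGroup (alternatingGroup (Fin 6)) := _root_.alternatingGroup.isSimpleGroup (by simp)
  have hs : IsSimpleGroup N := e.isSimpleGroup
  have hcN : Nat.card N = 360 := by rw [Nat.card_congr e.toEquiv, card_alt_six]
  obtain ⟨k, hk⟩ := Subgroup.card_dvd_of_le h1
  refine index_le_aux h h1 h2 h3 hs hcN (k := k) ?_ hk hsQ
  rw [hk, hcN] at hcA
  omega

/-- the order of `SL(3,q)`, `q ≥ 19` -/
theorem card_ge19 {q : ℕ} (h : 19 ≤ q) : 16934047920 ≤ q ^ 3 * (q ^ 2 - 1) * (q ^ 3 - 1) := by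
  have h1 : 19 ^ 3 ≤ q ^ 3 := Nat.pow_le_pow_left h 3
  have h2 : 19 ^ 2 ≤ q ^ 2 := Nat.pow_le_pow_left h 2
  calc 16934047920 = 19 ^ 3 * (19 ^ 2 - 1) * (19 ^ 3 - 1) := by norm_num
    _ ≤ q ^ 3 * (q ^ 2 - 1) * (q ^ 3 - 1) :=
        Nat.mul_le_mul (Nat.mul_le_mul h1 (Nat.sub_le_sub_right h2 1)) (Nat.sub_le_sub_right h1 1)

/-- **row `SL(3,q)`** with the weak bound for the socle `A₆` -/
theorem row_sl3' {Q : Type*} [Group Q] {A : Subgroup Q} (hA : IsCoatom A) {F : Type*} [Field F] [Fintype F]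
    (m : H419.EP.Model Q (Cfsg.Geo.specialLinear (Fin 3) F)) (hq : 5 ≤ Fintype.card F)
    (hres : Cfsg.Geo.InLinearResidualClass (m.hat A))
    (b7 : H419.EP.HasSoc A (Matrix.ProjectiveSpecialLinearGroup (Fin 3) (ZMod 2)) → A.index ≤ 210000)
    (b6 : H419.EP.HasSoc A (alternatingGroup (Fin 6)) → A.index ≤ 1491361) : False := by
  obtain ⟨P, p, hcore, hp, hchar, h⟩ := Cfsg.Agent.S5776.result (m.hat A) (m.isMaximalIn hA) hres
  have hS := Cfsg.Agent.H960.card_SL3 (F := F) rfl (by omega)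
  have hidx := H663.EP.card_hat_mul_index m A
  rw [hS] at hidx
  have hsoc := H419.EP.hasSoc_of_core m hcore
  rcases h with ⟨⟨e⟩, hF, hp2, hp7⟩ | ⟨⟨e⟩, hF⟩
  · have h11 : 11 ≤ Fintype.card F := by
      by_contra hcon
      have h8 : p = 8 ∨ p = 9 := by omega
      rcases h8 with rfl | rfl <;> norm_num at hp
    have h1 := H663.EP.card_ge h11
    have h2 : Nat.card (m.hat A) ≤ 1008 :=
      Nat.le_of_dvd (by norm_num) (H895.SLT.card_of_l hcore (m.hat_le A) e)
    have h3 := b7 (hsoc.congr e)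
    have h4 := Nat.mul_le_mul h2 h3
    omega
  · have h19 : 19 ≤ Fintype.card F := by
      rcases hF with ⟨hF, h15⟩ | ⟨hF, hp3, h5⟩
      · by_contra hcon
        have h16 : p = 16 := by omega
        rw [h16] at hp
        norm_num at hp
      · have h7 : 5 ≤ p := by
          by_contra hcon
          have : p = 2 ∨ p = 3 ∨ p = 4 := by
            have := hp.two_le
            omega
          rcases this with rfl | rfl | rfl
          · norm_num at hF
            omega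
          · exact hp3 rfl
          · norm_num at hp
        rw [hF]
        nlinarith
    have h1 := card_ge19 h19
    have h2 : Nat.card (m.hat A) ≤ 4320 :=
      Nat.le_of_dvd (by norm_num) (H895.SLT.card_of_a hcore (m.hat_le A) e)
    have h3 := b6 (hsoc.congr e)
    have h4 := Nat.mul_le_mul h2 h3
    omega

end Cfsg.Agent.H503.EPA
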