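import Cfsg.Agent.H804.PanPSL
import Cfsg.Agent.H470.EPO.OwnPan
import Cfsg.Agent.H419.EP.Filt
import Cfsg.Agent.H744.EP.Ten

/-!
# S3499: own characteristic, socle `PSL_n(K)`, `n ≥ 3`, in any classical group: `|K| = 2`
-/

set_option autoImplicit false

namespace Cfsg.Agent.H503.EPA

open Subgroup Cfsg.Agent.H284 Cfsg.Agent.H419.EP Cfsg.Agent.KFacts.RgdFilt Cfsg.Agent.LieRecognition.BNCox
open scoped MatrixGroups

/-- own characteristic, socle `PSL_n(K)` : `|K| = 2` -/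
theorem own_psl {n : ℕ} (hn : 3 ≤ n) {Q : Type*} [Group Q] [Finite Q] (hs : IsSimpleGroup Q) {A : Subgroup Q}
    {Γ : Subgroup (MulAut Q)} (h : EPT A Γ) {p : ℕ} [Fact p.Prime] (hQ : HasFilt p Q) {K : Type} [Field K] [Fintype K]
    [CharP K p] (hS : HasSoc A (Matrix.ProjectiveSpecialLinearGroup (Fin n) K)) : Fintype.card K = 2 := by
  obtain ⟨k, rfl⟩ : ∃ k, n = k + 1 := ⟨n - 1, by omega⟩
  have : IsSimpleGroup (Matrix.ProjectiveSpecialLinearGroup (Fin (k + 1)) K) := S0249.result (k + 1) hn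
  have : Finite (Matrix.ProjectiveSpecialLinearGroup (Fin (k + 1)) K) := Quotient.finite _
  have hL : ∃ a b : Matrix.ProjectiveSpecialLinearGroup (Fin (k + 1)) K, a * b ≠ b * a := by
    by_contra hcon
    push Not at hcon
    exact Cfsg.Agent.H744.EP.ncomm_psl (F := K) hn hcon
  obtain ⟨-, i, h2⟩ := Cfsg.Agent.H470.EPO.own_pan (p := p) (by omega : 2 ≤ k) hQ h hL hS
    (Cfsg.Agent.H804.PanPSL.pan_psl k) (Cfsg.Agent.KFacts.RgdFiltClass.hasFilt_PSL k)
  rw [← Nat.card_eq_fintype_card]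
  exact h2

theorem charP_of_card {F K : Type*} [Field F] [Fintype F] [Field K] [Fintype K] {k : ℕ} (hk : k ≠ 0)
    (h : Fintype.card K = Fintype.card F ^ k) : CharP K (ringChar F) := by
  obtain ⟨n, hp, hn⟩ := FiniteField.card F (ringChar F)
  obtain ⟨p', hp'⟩ := CharP.exists K
  obtain ⟨m, hpp', hm⟩ := FiniteField.card K p'
  have h1 : ringChar F ∣ p' ^ (m : ℕ) := by
    rw [← hm, h, hn, ← pow_mul]
    exact dvd_pow_self _ (mul_ne_zero n.ne_zero hk)
  have h2 : ringChar F = p' := (Nat.prime_dvd_prime_iff_eq hp hpp').1 (hp.dvd_of_dvd_pow h1)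
  rw [h2]
  exact hp'

/-- `L₃(q²) < L₉(q)` -/
theorem own_nine {Q : Type} [Group Q] [Finite Q] (hs : IsSimpleGroup Q) {A : Subgroup Q} {Γ : Subgroup (MulAut Q)}
    (h : EPT A Γ) {F : Type} [Field F] [Fintype F] (m : Model Q (Cfsg.Geo.specialLinear (Fin 9) F)) (K : Type)
    [Field K] [Fintype K] (hK : Fintype.card K = Fintype.card F ^ 2)
    (hS : HasSoc A (Matrix.ProjectiveSpecialLinearGroup (Fin 3) K)) : False := by
  have : Fact (ringChar F).Prime := ⟨CharP.char_is_prime F _⟩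
  have := charP_of_card (F := F) (K := K) two_ne_zero hK
  have h1 := own_psl le_rfl hs h (hasFilt_lin (by norm_num) m) hS
  have h2 : 1 < Fintype.card F := Fintype.one_lt_card
  rw [hK] at h1
  nlinarith

end Cfsg.Agent.H503.EPA
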