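import Cfsg.Agent.H503.EPA.PslFrame
import Cfsg.Agent.H503.EPA.ASix
import Cfsg.Agent.H223.EP.Row5794
import Cfsg.Agent.H957.EP.RowSixUB
import Cfsg.Agent.H610.EP.Seven
import Cfsg.Agent.H107.EP.Eight
import Cfsg.Agent.H729.EPM.RowSLNine
import Cfsg.Agent.H689.EP.L27Row
import Cfsg.Agent.H119.EP.UThree
import Cfsg.Agent.H59.EP.UBFin
import Cfsg.Agent.S0255
import Cfsg.Agent.S5800
import Cfsg.Agent.S5818
import Cfsg.Agent.H725.EP.SLFour
import Cfsg.Agent.H220.EP.ASeven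
import Cfsg.Agent.H104.EP.U42
import Cfsg.Agent.H16.EP.MTwelve
import Cfsg.Agent.H396.EP.OwnThree
import Cfsg.Agent.H837.EP.L10Row
import Cfsg.Agent.H744.EP.TenRow
import Cfsg.Agent.H206.EP.Row11
import Cfsg.Agent.H473.EP.TwelveFin
import Cfsg.Agent.H775.EPS.SuzFin
import Cfsg.Agent.H833.TenFive.Own5
import Cfsg.Agent.H52.EP.U43Fin
import Cfsg.Agent.H503.EPA.OwnPsl

/-!
# S3499: the rows `SL_n(q)`, `3 ≤ n ≤ 12`, residual class (task 6158)

`pslRes12` : `PslRes12`.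
-/

set_option autoImplicit false

namespace Cfsg.Agent.H503.EPA

open Subgroup Cfsg.Agent.H284 Cfsg.Agent.H419.EP
open scoped MatrixGroups

theorem rowSL33 : RowSL33 := by
  intro F _ _ H hF hmax hres
  obtain ⟨P, p, -, hp, -, h⟩ := Cfsg.Agent.S5776.result H hmax hres
  rcases h with ⟨-, h1, -, h2⟩ | ⟨-, ⟨h1, h2⟩ | ⟨h1, -, -⟩⟩
  · omega
  · omega
  · have h3 : p ^ 2 = 3 := by omega
    have h4 : 2 ≤ p := hp.two_le
    nlinarith

/-- `L₂(7)` -/
theorem ib_l27 : IB (Matrix.ProjectiveSpecialLinearGroup (Fin 3) (ZMod 2)) 5041 := by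
  intro Q _ _ _ A Γ h hS
  obtain ⟨N, hNA, hN, hC, ⟨e⟩⟩ := hS
  have : Fact (Nat.Prime 7) := ⟨by norm_num⟩
  obtain ⟨e'⟩ := Cfsg.Agent.S0255.result (F := ZMod 7) (K := ZMod 2) (ZMod.card 7) (ZMod.card 2)
  exact (Cfsg.Agent.H689.EP.psl27 h hNA hN (ZMod.card 7) (e.trans e'.symm) hC).1

/-- `n = 3` -/
theorem row3 : RowSL 3 5 := by
  intro Q _ _ hs A Γ h F _ _ m hq hres
  exact row_sl3' h.max m hq hres (fun hS => (ib_l27 hs h hS).trans (by norm_num)) (index_le_six hs h)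

/-- the index bound for `U₄(2)` -/
def BU42 : Prop := ∀ {Q : Type} [Group Q] [Finite Q], IsSimpleGroup Q → ∀ {A : Subgroup Q} {Γ : Subgroup (MulAut Q)},
  EPT A Γ → ∀ {K : Type} [Field K] [Fintype K], Fintype.card K = 4 → HasSoc A (Cfsg.PSU 4 K 2) → A.index ≤ 2 ^ 18

theorem bU42 : BU42 := by
  intro Q _ _ _ A Γ h K _ _ hK hS
  exact Cfsg.Agent.H104.EP.index_le_u42 h hK hS

theorem ib_a7 : IB (alternatingGroup (Fin 7)) 51984 := by
  intro Q _ _ _ A Γ h hS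
  exact Cfsg.Agent.H220.EP.index_le_seven h hS

/-- `n = 4` (the proof of `H725.EP.row_sl4` with the bound `51984` for `A₇`) -/
theorem row4 : RowSL 4 3 := by
  intro Q _ _ hs A Γ h F _ _ m hF hres
  obtain ⟨P, p, hP, hp, hFp, h1⟩ := S5782.result (m.hat A) (m.isMaximalIn h.max) hres
  have hS := hasSoc_of_core m hP
  have hc := Cfsg.Agent.H725.EP.card_four m hFp
  rw [hFp] at hF
  rcases h1 with ⟨⟨e⟩, h2⟩ | ⟨⟨K, i1, i2, hK, ⟨e⟩⟩, h2⟩
  · have h3 := hS.congr e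
    have h4 := ib_a7 hs h h3
    have h5 : Nat.card A ≤ 5040 :=
      h3.card_le.trans (Nat.le_of_dvd (by norm_num) H900.SU4.card_mulAut_alt_seven)
    have h6 : 11 ≤ p := by
      by_contra h7
      interval_cases p <;> first | omega | (revert hp; norm_num)
    have h7 := Cfsg.Agent.H725.EP.mono_four h6
    have h8 : Nat.card A * A.index ≤ 5040 * 51984 := Nat.mul_le_mul h5 h4
    rw [A.card_mul_index] at h8
    norm_num at h7 h8
    omega
  · have h3 := hS.congr e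
    have h4 := bU42 hs h hK h3
    have h5 : Nat.card A ≤ 51840 := by
      refine h3.card_le.trans (le_of_eq (H245.PslFourThree.card_aut_u42 ?_))
      exact ⟨K, i1, i2, by rw [hK]; norm_num, ⟨MulEquiv.refl _⟩⟩
    have h6 : 7 ≤ p := by omega
    have h7 := Cfsg.Agent.H725.EP.mono_four h6
    have h8 : Nat.card A * A.index ≤ 51840 * 2 ^ 18 := Nat.mul_le_mul h5 h4
    rw [A.card_mul_index] at h8
    norm_num at h7 h8
    omega

/-- `n = 5` -/
theorem row5 : RowSL 5 2 := by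
  intro Q _ _ hs A Γ h F _ _ m _ hres
  exact Cfsg.Agent.H223.EP.row5794 hs h m hres

/-- the index bound for `U₄(3)` -/
def BU43 : Prop := ∀ {Q : Type} [Group Q] [Finite Q], IsSimpleGroup Q → ∀ {A : Subgroup Q} {Γ : Subgroup (MulAut Q)},
  EPT A Γ → ∀ (K : Type) [Field K] [Fintype K], Fintype.card K = 9 → HasSoc A (Cfsg.PSU 4 K 3) → A.index ≤ 10 ^ 21

theorem bU43 : BU43 := by
  intro Q _ _ hs A Γ h K _ _ hK hS
  exact (Cfsg.Agent.H52.EP.u43_index hs h hK hS).trans (by norm_num)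

theorem list5800 {F : Type} [Field F] [Fintype F] (H : Subgroup (GL (Fin 6) F))
    (hH : Cfsg.Geo.IsMaximalIn (Cfsg.Geo.specialLinear (Fin 6) F) H) (hr : Cfsg.Geo.InLinearResidualClass H) :
    Cfsg.Agent.H957.EP.List5800 H :=
  Cfsg.Agent.S5800.result H hH hr

/-- `n = 6` -/
theorem row6 : RowSL 6 2 := by
  intro Q _ _ hs A Γ h F _ _ m _ hres
  exact Cfsg.Agent.H957.EP.row_ub hs h m hres Cfsg.Agent.H59.EP.twoGen (fun H hH hr => list5800 H hH hr)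
    (fun hS => (Cfsg.Agent.H16.EP.no_m12 h m (list5800 _ (m.isMaximalIn h.max) hres) hS).elim) (bU43 hs h)
    (Cfsg.Agent.H396.EP.l3_six_own Cfsg.Agent.H59.EP.twoGen hs h m)

theorem boundU33 : Cfsg.Agent.H610.EP.BoundU33 := by
  intro Q _ _ _ A Γ h K _ _ hK hS
  obtain ⟨N, hNA, hN, hC, ⟨e⟩⟩ := hS
  exact Cfsg.Agent.H119.EP.index_le_psu33 h hNA hN (by rw [hK]; norm_num) e hC

/-- `n = 7` -/
theorem row7 : RowSL 7 2 := by
  intro Q _ _ hs A Γ h F _ _ m _ hres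
  exact Cfsg.Agent.H610.EP.row_sl7 boundU33 hs h m hres

theorem l34 : Cfsg.Agent.H107.EP.L34 := by
  intro Q _ _ hs A Γ h K _ _ hK hS
  have hL : IsSimpleGroup (Matrix.ProjectiveSpecialLinearGroup (Fin 3) K) := S0249.result 3 le_rfl
  exact (Cfsg.Agent.H957.EP.idx_20160 hs h Cfsg.Agent.H59.EP.twoGen hS hL
    (Cfsg.Agent.H957.EP.ncomm_of_not_prime hL (by rw [Cfsg.Agent.H957.EP.card_l3_4 hK]; norm_num))
    (Cfsg.Agent.H957.EP.card_l3_4 hK) (dvd_of_eq (Cfsg.Agent.H957.EP.card_aut_l3_4 hK))).trans (by norm_num)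

/-- `n = 8` -/
theorem row8 : RowSL 8 2 := by
  intro Q _ _ hs A Γ h F _ _ m _ hres
  exact Cfsg.Agent.H107.EP.row_lin l34 (fun H hH hr => Cfsg.Agent.S5818.result H hH hr) hs h m hres

/-- `n = 9` -/
theorem row9 : RowSL 9 2 := by
  intro Q _ _ hs A Γ h F _ _ m _ hres
  exact Cfsg.Agent.H729.EPM.row_sl_nine h m hres (own_nine hs h m)

/-- `n = 10` -/
theorem row10 : RowSL 10 2 := by
  intro Q _ _ hs A Γ h F _ _ m _ hres
  exact Cfsg.Agent.H837.EP.L10Row.row hs h m hres (Cfsg.Agent.H744.EP.hown3_sl Cfsg.Agent.H59.EP.twoGen hs h m)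
    (Cfsg.Agent.H744.EP.hown4_sl Cfsg.Agent.H59.EP.twoGen hs h m)
    (fun hS => Cfsg.Agent.H833.TenFive.own5_sl h m hres hS)

/-- `n = 11` -/
theorem row11 : RowSL 11 2 := by
  intro Q _ _ hs A Γ h F _ _ m _ hres
  exact Cfsg.Agent.H206.EP.row_sl11 hs h m hres

theorem bSuz : Cfsg.Agent.H473.EP.BSuz := by
  intro Q _ _ hs A Γ h hS
  exact Cfsg.Agent.H775.EPS.index_le_suz hs h ⟨MulEquiv.refl _⟩ hS

/-- `n = 12` -/
theorem row12 : RowSL 12 2 := by
  intro Q _ _ hs A Γ h F _ _ m _ hres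
  exact Cfsg.Agent.H473.EP.row_sl12 Cfsg.Agent.H473.EP.l5863 bSuz hs h m hres

/-- **`PslRes12`** -/
theorem pslRes12 : PslRes12 :=
  pslRes12_of_rows rowSL33 row3 row4 row5 row6 row7 row8 row9 row10 row11 row12

end Cfsg.Agent.H503.EPA
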