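import Cfsg.Agent.H419.EP.Big

/-!
# S3499: `PslRes12` from the rows `n = 3, …, 12` (frame)
-/

set_option autoImplicit false

namespace Cfsg.Agent.H503.EPA

open Subgroup Cfsg.Agent.H284 Cfsg.Agent.H419.EP
open scoped MatrixGroups

/-- the row of `SL_n(q)`, `q ≥ b` -/
def RowSL (n b : ℕ) : Prop := ∀ {Q : Type} [Group Q] [Finite Q], IsSimpleGroup Q → ∀ {A : Subgroup Q}
    {Γ : Subgroup (MulAut Q)}, EPT A Γ → ∀ {F : Type} [Field F] [Fintype F]
    (m : Model Q (Cfsg.Geo.specialLinear (Fin n) F)), b ≤ Fintype.card F →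
    Cfsg.Geo.InLinearResidualClass (m.hat A) → False

/-- index bound for the socle `L` -/
def IB (L : Type) [Group L] (B : ℕ) : Prop := ∀ {Q : Type} [Group Q] [Finite Q], IsSimpleGroup Q →
    ∀ {A : Subgroup Q} {Γ : Subgroup (MulAut Q)}, EPT A Γ → HasSoc A L → A.index ≤ B

/-- the row of `SL_3(3)` -/
def RowSL33 : Prop := ∀ {F : Type} [Field F] [Fintype F] (H : Subgroup (GL (Fin 3) F)), Fintype.card F = 3 →
    Cfsg.Geo.IsMaximalIn (Cfsg.Geo.specialLinear (Fin 3) F) H → Cfsg.Geo.InLinearResidualClass H → False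

/-- **the assembly** -/
theorem pslRes12_of_rows (h33 : RowSL33) (h3 : RowSL 3 5) (h4 : RowSL 4 3) (h5 : RowSL 5 2) (h6 : RowSL 6 2)
    (h7 : RowSL 7 2) (h8 : RowSL 8 2) (h9 : RowSL 9 2) (h10 : RowSL 10 2) (h11 : RowSL 11 2) (h12 : RowSL 12 2) :
    PslRes12 := by
  intro Q _ _ hs A Γ h F _ _ n m hn3 hn12 e1 e2 e3 hres
  have hF : 2 ≤ Fintype.card F := Fintype.one_lt_card
  obtain rfl | rfl | rfl | rfl | rfl | rfl | rfl | rfl | rfl | rfl : n = 3 ∨ n = 4 ∨ n = 5 ∨ n = 6 ∨ n = 7 ∨ n = 8 ∨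
      n = 9 ∨ n = 10 ∨ n = 11 ∨ n = 12 := by omega
  · rcases Nat.lt_or_ge (Fintype.card F) 5 with h5' | h5'
    · exact h33 (m.hat A) (by omega) (m.isMaximalIn h.max) hres
    · exact h3 hs h m h5' hres
  · exact h4 hs h m (by omega) hres
  · exact h5 hs h m hF hres
  · exact h6 hs h m hF hres
  · exact h7 hs h m hF hres
  · exact h8 hs h m hF hres
  · exact h9 hs h m hF hres
  · exact h10 hs h m hF hres
  · exact h11 hs h m hF hres
  · exact h12 hs h m hF hres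

end Cfsg.Agent.H503.EPA
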